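import Groth.Agent.SyntDim.Basic
import Groth.Prelude.Def_RegImm

/-!
Krull dimension of standard smooth algebras over a field; they are global complete intersections.
-/

set_option autoImplicit false

open MvPolynomial IsLocalRing

universe u

namespace Groth.Agent.SyntDim

variable {K : Type u} [Field K] {n c : ℕ}

/-- Local structure at a maximal ideal with an invertible Jacobian minor. -/
theorem regular_quotient_localization (f : Fin c → MvPolynomial (Fin n) K) (cols : Fin c → Fin n)
    (m : Ideal (MvPolynomial (Fin n) K)) [m.IsMaximal] (hf : ∀ j, f j ∈ m)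
    (hdet : (Matrix.of fun j k => pderiv (cols k) (f j)).det ∉ m) :
    c ≤ n ∧
      IsRegularLocalRing (Localization.AtPrime m ⧸
        Ideal.span (Set.range fun j => algebraMap _ (Localization.AtPrime m) (f j))) ∧
      ringKrullDim (Localization.AtPrime m ⧸
        Ideal.span (Set.range fun j => algebraMap _ (Localization.AtPrime m) (f j))) = (n - c : ℕ) := by
  classical
  have hd : ringKrullDim (Localization.AtPrime m) = (n : ℕ) := by
    rw [IsLocalization.AtPrime.ringKrullDim_eq_height m,
      Groth.Agent.DimTheory.height_maximal_mvPolynomial K n m]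
    rfl
  have hli := linearIndependent_toCotangent f cols m hf hdet
  let e : Fin c → maximalIdeal (Localization.AtPrime m) := fun j =>
    ⟨algebraMap _ _ (f j), (IsLocalization.AtPrime.to_map_mem_maximal_iff _ m _).mpr (hf j)⟩
  have hinj : Function.Injective e := fun a b h => hli.injective (congrArg _ h)
  let s : Finset (maximalIdeal (Localization.AtPrime m)) := Finset.univ.image e
  have hs : LinearIndepOn (ResidueField (Localization.AtPrime m))
      (maximalIdeal (Localization.AtPrime m)).toCotangent
      (s : Set (maximalIdeal (Localization.AtPrime m))) := by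
    rw [Finset.coe_image, Finset.coe_univ, Set.image_univ,
      linearIndepOn_range_iff hinj]
    exact hli
  obtain ⟨t, ht, hcard⟩ := Groth.Agent.CAlgReg.exists_extend s hs
  have hs' : s.card = c := by rw [Finset.card_image_of_injective _ hinj]; simp
  rw [Groth.Agent.CAlgReg.spanFinrank_eq_of_dim hd, hs'] at hcard
  have hs'' : (s.image Subtype.val).card = c := by
    rw [Finset.card_image_of_injective _ Subtype.val_injective, hs']
  obtain ⟨hreg, hdim, hsum⟩ := Groth.Agent.CAlgReg.quotient_span hd (s.image Subtype.val) t
    (by rw [Finset.coe_image]; exact ht) (by rw [hs'']; exact hcard)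
  have hcoe : ((s.image Subtype.val : Finset _) : Set (Localization.AtPrime m)) =
      Set.range fun j => algebraMap _ (Localization.AtPrime m) (f j) := by
    rw [Finset.coe_image, Finset.coe_image, Finset.coe_univ, Set.image_univ, ← Set.range_comp]
    rfl
  rw [hcoe] at hreg hdim
  exact ⟨by omega, hreg, by rw [hdim]; congr; omega⟩

/-- A quotient of a polynomial ring by relations with an invertible minor near every closed point
has dimension at most `n - c`. -/
theorem ringKrullDim_quotient_le (f : Fin c → MvPolynomial (Fin n) K)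
    (h : ∀ m : Ideal (MvPolynomial (Fin n) K), m.IsMaximal → (∀ j, f j ∈ m) →
      ∃ cols : Fin c → Fin n, (Matrix.of fun j k => pderiv (cols k) (f j)).det ∉ m) :
    ringKrullDim (MvPolynomial (Fin n) K ⧸ Ideal.span (Set.range f)) ≤ (n - c : ℕ) := by
  nontriviality (MvPolynomial (Fin n) K ⧸ Ideal.span (Set.range f))
  rw [ringKrullDim_le_iff_isMaximal_height_le]
  intro M hM
  let J := Ideal.span (Set.range f)
  let m : Ideal (MvPolynomial (Fin n) K) := M.comap (Ideal.Quotient.mk J)
  have : m.IsMaximal := Ideal.comap_isMaximal_of_surjective _ Ideal.Quotient.mk_surjective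
  have hfm : ∀ j, f j ∈ m := fun j => by
    rw [Ideal.mem_comap, Ideal.Quotient.eq_zero_iff_mem.mpr (Ideal.subset_span (Set.mem_range_self j))]
    exact M.zero_mem
  obtain ⟨cols, hcols⟩ := h m inferInstance hfm
  obtain ⟨-, -, hdim⟩ := regular_quotient_localization f cols m hfm hcols
  let J' : Ideal (Localization.AtPrime m) :=
    Ideal.span (Set.range fun j => algebraMap _ (Localization.AtPrime m) (f j))
  have hJ' : J' = J.map (algebraMap _ (Localization.AtPrime m)) := by
    rw [Ideal.map_span, ← Set.range_comp]; rfl
  let M' : PrimeSpectrum (MvPolynomial (Fin n) K ⧸ J) := ⟨M, hM.isPrime⟩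
  rw [show M.height = Order.height M' from M'.height_eq_orderHeight, Order.height_eq_krullDim_Iic,
    ← hdim]
  have hle : ∀ Q : Set.Iic M', Q.1.asIdeal.comap (Ideal.Quotient.mk J) ≤ m := fun Q =>
    Ideal.comap_mono Q.2
  have hdisj : ∀ Q : Set.Iic M',
      Disjoint (m.primeCompl : Set (MvPolynomial (Fin n) K))
        (Q.1.asIdeal.comap (Ideal.Quotient.mk J)) := fun Q =>
    Set.disjoint_left.mpr fun x hx hxQ => hx (hle Q hxQ)
  have hJQ : ∀ Q : Set.Iic M',
      J' ≤ (Q.1.asIdeal.comap (Ideal.Quotient.mk J)).map (algebraMap _ (Localization.AtPrime m)) :=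
    fun Q => by
      rw [hJ']
      refine Ideal.map_mono ?_
      rw [← Ideal.map_le_iff_le_comap, Ideal.map_quotient_self]
      exact bot_le
  let e : Set.Iic M' → PrimeSpectrum (Localization.AtPrime m ⧸ J') := fun Q =>
    ⟨((Q.1.asIdeal.comap (Ideal.Quotient.mk J)).map (algebraMap _ (Localization.AtPrime m))).map
        (Ideal.Quotient.mk J'),
      have := IsLocalization.isPrime_of_isPrime_disjoint m.primeCompl (Localization.AtPrime m) _
        inferInstance (hdisj Q)
      Ideal.isPrime_map_quotientMk_of_isPrime (hJQ Q)⟩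
  refine Order.krullDim_le_of_strictMono e (Monotone.strictMono_of_injective ?_ ?_)
  · intro a b hab
    exact Ideal.map_mono (Ideal.map_mono (Ideal.comap_mono hab))
  · intro a b hab
    have hrec : ∀ Q, (e Q).asIdeal.comap (Ideal.Quotient.mk J') =
        (Q.1.asIdeal.comap (Ideal.Quotient.mk J)).map (algebraMap _ (Localization.AtPrime m)) :=
      fun Q => by
        change ((Ideal.map _ _).map (Ideal.Quotient.mk J')).comap (Ideal.Quotient.mk J') = _
        rw [Ideal.comap_map_of_surjective _ Ideal.Quotient.mk_surjective, ← RingHom.ker_eq_comap_bot,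
          Ideal.mk_ker, sup_eq_left.mpr (hJQ Q)]
    have h1 := (hrec a).symm.trans ((congrArg (Ideal.comap (Ideal.Quotient.mk J'))
      (congrArg PrimeSpectrum.asIdeal hab)).trans (hrec b))
    have h2 := congrArg (Ideal.comap (algebraMap (MvPolynomial (Fin n) K) (Localization.AtPrime m))) h1
    replace h2 := (IsLocalization.comap_map_of_isPrime_disjoint m.primeCompl (Localization.AtPrime m)
        (hI := inferInstance) (hdisj a)).symm.trans (h2.trans
      (IsLocalization.comap_map_of_isPrime_disjoint m.primeCompl (Localization.AtPrime m)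
        (hI := inferInstance) (hdisj b)))
    exact Subtype.ext (PrimeSpectrum.ext
      (Ideal.comap_injective_of_surjective _ Ideal.Quotient.mk_surjective h2))

/-- A standard smooth algebra has a presentation by `Fin n`, `Fin c` with invertible minor. -/
theorem exists_presentation_of_isStandardSmooth {R A : Type u} [CommRing R] [CommRing A]
    [Algebra R A] [Algebra.IsStandardSmooth R A] :
    ∃ (n c : ℕ) (f : Fin c → MvPolynomial (Fin n) R) (φ : MvPolynomial (Fin n) R →ₐ[R] A)
      (cols : Fin c → Fin n), Function.Surjective φ ∧ Function.Injective cols ∧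
        RingHom.ker φ.toRingHom = Ideal.span (Set.range f) ∧
        IsUnit (φ (Matrix.of fun j k => pderiv (cols k) (f j)).det) := by
  classical
  obtain ⟨ι, σ, hσ, hι, ⟨P⟩⟩ := ‹Algebra.IsStandardSmooth R A›.out
  obtain ⟨n, ⟨e⟩⟩ := Finite.exists_equiv_fin ι
  obtain ⟨c, ⟨e'⟩⟩ := Finite.exists_equiv_fin σ
  let Q := P.reindex e.symm e'.symm
  refine ⟨n, c, Q.relation, aeval Q.val, Q.map, ?_, Q.map_inj, ?_, ?_⟩
  · exact fun x => ⟨Q.σ x, Q.aeval_val_σ x⟩
  · rw [Q.span_range_relation_eq_ker]; exact Q.toPresentation.ker_eq_ker_aeval_val.symm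
  · have h := Q.jacobian_isUnit
    rw [Q.jacobian_eq_jacobiMatrix_det] at h
    have hmat : (Matrix.of fun j k => pderiv (Q.map k) (Q.relation j)) = Q.jacobiMatrix.transpose := by
      ext j k; simp [Algebra.PreSubmersivePresentation.jacobiMatrix_apply]
    rw [hmat, Matrix.det_transpose]
    exact h

/-- A standard smooth algebra over a field is a global complete intersection. -/
theorem isGlobalCI_of_isStandardSmooth (A : Type u) [CommRing A] [Algebra K A]
    [Algebra.IsStandardSmooth K A] : Synt.IsGlobalCI K A := by
  rcases subsingleton_or_nontrivial A with hA | hA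
  · exact Or.inl hA
  obtain ⟨n, c, f, φ, cols, hφ, hcols, hker, hunit⟩ :=
    exists_presentation_of_isStandardSmooth (R := K) (A := A)
  let e : (MvPolynomial (Fin n) K ⧸ Ideal.span (Set.range f)) ≃+* A :=
    (Ideal.quotEquivOfEq hker.symm).trans (RingHom.quotientKerEquivOfSurjective hφ)
  have := e.toEquiv.nontrivial
  have hc : c ≤ n := by simpa using Fintype.card_le_of_injective cols hcols
  refine Or.inr ⟨n, c, hc, φ, f, hφ, hker, ?_⟩
  rw [← ringKrullDim_eq_of_ringEquiv e]
  refine le_antisymm (ringKrullDim_quotient_le f fun m hm hfm => ⟨cols, fun h => ?_⟩) ?_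
  · have hJm : Ideal.span (Set.range f) ≤ m := Ideal.span_le.mpr (by rintro _ ⟨j, rfl⟩; exact hfm j)
    obtain ⟨y, hy⟩ := hunit.exists_left_inv
    obtain ⟨y, rfl⟩ := hφ y
    have h1 : y * (Matrix.of fun j k => pderiv (cols k) (f j)).det - 1 ∈ Ideal.span (Set.range f) := by
      rw [← hker, RingHom.mem_ker]
      change φ _ = 0
      rw [map_sub, map_mul, hy, map_one, sub_self]
    exact hm.ne_top ((Ideal.eq_top_iff_one m).mpr (by
      simpa using m.sub_mem (m.mul_mem_left y h) (hJm h1)))
  · have h := le_ringKrullDim_quotient f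
    generalize ringKrullDim (MvPolynomial (Fin n) K ⧸ Ideal.span (Set.range f)) = d at h ⊢
    induction d with
    | bot => simp at h
    | coe d =>
      induction d with
      | top => exact le_top
      | coe d =>
        have h' : n ≤ d + c := by exact_mod_cast h
        have h'' : n - c ≤ d := by omega
        exact WithBot.coe_le_coe.mpr (ENat.natCast_le_natCast.mpr h'')

end Groth.Agent.SyntDim
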