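import Groth.Agent.DimTheory.Algebra
import Mathlib.RingTheory.Smooth.StandardSmooth
import Mathlib.RingTheory.RegularLocalRing.Polynomial
import Mathlib.RingTheory.Ideal.KrullsHeightTheorem
import Mathlib.Algebra.MvPolynomial.PDeriv
import Mathlib.LinearAlgebra.Matrix.NonsingularInverse
import Groth.Agent.CAlgReg.Basic

/-!
Dimension and regularity of standard smooth algebras over a field, at arbitrary points.
-/

set_option autoImplicit false

open MvPolynomial IsLocalRing

universe u

namespace Groth.Agent.SyntDim

variable {K : Type u} [Field K] {n c : ℕ}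

/-- A nonzero quotient of a polynomial ring in `n` variables by `c` elements has dimension at
least `n - c`. -/
theorem le_ringKrullDim_quotient (f : Fin c → MvPolynomial (Fin n) K)
    [Nontrivial (MvPolynomial (Fin n) K ⧸ Ideal.span (Set.range f))] :
    (n : WithBot ℕ∞) ≤ ringKrullDim (MvPolynomial (Fin n) K ⧸ Ideal.span (Set.range f)) + c := by
  obtain ⟨m, hm, hle⟩ := Ideal.exists_le_maximal _
    (Ideal.Quotient.nontrivial_iff.mp (inferInstance :
      Nontrivial (MvPolynomial (Fin n) K ⧸ Ideal.span (Set.range f))))
  have h := Ideal.height_le_ringKrullDim_quotient_add_encard (Set.range f) (p := m)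
    (fun x hx => hle (Ideal.subset_span hx))
  rw [Groth.Agent.DimTheory.height_maximal_mvPolynomial K n m] at h
  refine le_trans (le_of_eq rfl) (h.trans (add_le_add le_rfl ?_))
  have : (Set.range f).encard ≤ (c : ℕ∞) := by
    rw [← Set.image_univ]; exact (Set.encard_image_le _ _).trans (by simp)
  exact_mod_cast this

/-- Elements with an invertible Jacobian minor at a prime give independent cotangent vectors. -/
theorem linearIndependent_toCotangent (f : Fin c → MvPolynomial (Fin n) K) (cols : Fin c → Fin n)
    (p : Ideal (MvPolynomial (Fin n) K)) [p.IsPrime] (hf : ∀ j, f j ∈ p)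
    (hdet : (Matrix.of fun j k => pderiv (cols k) (f j)).det ∉ p) :
    LinearIndependent (ResidueField (Localization.AtPrime p)) fun j =>
      (maximalIdeal (Localization.AtPrime p)).toCotangent
        ⟨algebraMap _ _ (f j), (IsLocalization.AtPrime.to_map_mem_maximal_iff _ p _).mpr (hf j)⟩ := by
  classical
  rw [Fintype.linearIndependent_iff]
  intro a ha
  choose a₀ ha₀ using fun j => residue_surjective (a j)
  obtain ⟨s, hs⟩ := IsLocalization.exist_integer_multiples_of_finite p.primeCompl a₀
  choose u hu using hs
  have hsum : algebraMap _ (Localization.AtPrime p) (∑ j, u j * f j) ∈ maximalIdeal (Localization.AtPrime p) ^ 2 := by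
    rw [map_sum]
    simp only [map_mul, hu, Algebra.smul_def, mul_assoc, ← Finset.mul_sum]
    refine Ideal.mul_mem_left _ _ ?_
    let e : Fin c → maximalIdeal (Localization.AtPrime p) := fun j =>
      ⟨algebraMap _ (Localization.AtPrime p) (f j), (IsLocalization.AtPrime.to_map_mem_maximal_iff _ p _).mpr (hf j)⟩
    have h0 : (maximalIdeal (Localization.AtPrime p)).toCotangent (∑ j, a₀ j • e j) = 0 := by
      rw [map_sum, ← ha]
      refine Finset.sum_congr rfl fun j _ => ?_
      rw [map_smul, ← ha₀ j]
      rfl
    have := (Ideal.toCotangent_eq_zero _ _).mp h0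
    simpa [e] using this
  rw [← IsLocalization.AtPrime.map_eq_maximalIdeal p (Localization.AtPrime p), ← Ideal.map_pow,
    IsLocalization.algebraMap_mem_map_algebraMap_iff p.primeCompl] at hsum
  obtain ⟨t, ht, htmem⟩ := hsum
  have hd : ∀ i, ∀ x ∈ p ^ 2, pderiv i x ∈ p := by
    intro i x hx
    rw [pow_two] at hx
    refine Submodule.mul_induction_on hx (fun y hy z hz => ?_) fun y z hy hz => ?_
    · rw [Derivation.leibniz, smul_eq_mul, smul_eq_mul]
      exact add_mem (p.mul_mem_right _ hy) (p.mul_mem_right _ hz)
    · rw [map_add]; exact add_mem hy hz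
  let M : Matrix (Fin c) (Fin c) (MvPolynomial (Fin n) K ⧸ p) :=
    (Ideal.Quotient.mk p).mapMatrix (Matrix.of fun j k => pderiv (cols k) (f j))
  let v : Fin c → MvPolynomial (Fin n) K ⧸ p := fun j => Ideal.Quotient.mk p (t * u j)
  have hv : Matrix.vecMul v M = 0 := by
    funext k
    have h := hd (cols k) _ htmem
    rw [Finset.mul_sum, map_sum] at h
    have : ∑ j, t * u j * pderiv (cols k) (f j) ∈ p := by
      have h2 : ∑ j, f j * pderiv (cols k) (t * u j) ∈ p :=
        Ideal.sum_mem _ fun j _ => p.mul_mem_right _ (hf j)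
      have heq : ∑ j, pderiv (cols k) (t * (u j * f j)) =
          ∑ j, t * u j * pderiv (cols k) (f j) + ∑ j, f j * pderiv (cols k) (t * u j) := by
        rw [← Finset.sum_add_distrib]
        refine Finset.sum_congr rfl fun j _ => ?_
        rw [← mul_assoc, Derivation.leibniz, smul_eq_mul, smul_eq_mul]
      rw [heq] at h
      exact (add_mem_cancel_right h2).mp h
    simp only [Matrix.vecMul, dotProduct, v, M, RingHom.mapMatrix_apply, Matrix.map_apply,
      Matrix.of_apply, Pi.zero_apply, ← map_mul, ← map_sum]
    exact Ideal.Quotient.eq_zero_iff_mem.mpr this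
  have hM : M.det ≠ 0 := by
    rw [← RingHom.map_det, Ne, Ideal.Quotient.eq_zero_iff_mem]
    exact hdet
  intro j
  have hvj : v j = 0 := congrFun (Matrix.eq_zero_of_vecMul_eq_zero hM hv) j
  have huj : u j ∈ p :=
    ((Ideal.IsPrime.mem_or_mem ‹_› (Ideal.Quotient.eq_zero_iff_mem.mp hvj))).resolve_left ht
  rw [← ha₀ j, residue_eq_zero_iff]
  have h1 : algebraMap _ (Localization.AtPrime p) (u j) ∈ maximalIdeal (Localization.AtPrime p) :=
    (IsLocalization.AtPrime.to_map_mem_maximal_iff _ p _).mpr huj
  rw [hu, Algebra.smul_def] at h1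
  exact ((maximalIdeal.isMaximal (Localization.AtPrime p)).isPrime.mem_or_mem h1).resolve_left
    fun h => s.2 ((IsLocalization.AtPrime.to_map_mem_maximal_iff _ p _).mp h)

end Groth.Agent.SyntDim
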