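import Groth.Agent.SyntDim.Dim
import Mathlib.RingTheory.Flat.FaithfullyFlat.Basic
import Mathlib.RingTheory.RingHom.FaithfullyFlat
import Mathlib.RingTheory.Finiteness.Finsupp

set_option autoImplicit false

universe u

namespace Groth.Agent.SyntDim

set_option synthInstance.maxHeartbeats 400000 in
set_option maxHeartbeats 1000000 in
open TensorProduct in
/-- `T_i ↦ T_i ^ p` on a polynomial ring is syntomic and faithfully flat. -/
theorem isSyntomic_faithfullyFlat_pow (p : ℕ) (hp : 0 < p) (A : Type u) [CommRing A]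
    [IsNoetherianRing A] (m : ℕ) (S : Type u) [CommRing S] [Algebra A S]
    [Algebra (MvPolynomial (Fin m) A) S] [IsScalarTower A (MvPolynomial (Fin m) A) S]
    (u : MvPolynomial (Fin m) A ≃ₐ[A] S)
    (hu : ∀ i, algebraMap (MvPolynomial (Fin m) A) S (MvPolynomial.X i) = u (MvPolynomial.X i) ^ p) :
    Synt.IsSyntomic (MvPolynomial (Fin m) A) S ∧
      Module.FaithfullyFlat (MvPolynomial (Fin m) A) S := by
  classical
  let φ : MvPolynomial (Fin m) A →ₐ[A] S := IsScalarTower.toAlgHom A (MvPolynomial (Fin m) A) S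
  have hφ : ∀ i, φ (MvPolynomial.X i) = u (MvPolynomial.X i) ^ p := hu
  let v : (Fin m → Fin p) → S := fun r =>
    u (MvPolynomial.monomial (Finsupp.equivFunOnFinite.symm fun i => (r i : ℕ)) 1)
  have hmon : ∀ (e : Fin m →₀ ℕ) (a : A),
      φ (MvPolynomial.monomial e a) = u (MvPolynomial.monomial (p • e) a) := by
    intro e a
    rw [MvPolynomial.monomial_eq, MvPolynomial.monomial_eq, map_mul, ← MvPolynomial.algebraMap_eq,
      AlgHom.commutes, map_finsuppProd, map_mul, AlgEquiv.commutes, map_finsuppProd]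
    congr 1
    rw [Finsupp.prod_fintype _ _ (fun i => by simp), Finsupp.prod_fintype _ _ (fun i => by simp)]
    exact Finset.prod_congr rfl fun i _ => by
      rw [map_pow, map_pow, hφ, ← pow_mul, Finsupp.smul_apply, smul_eq_mul]
  let σ : ((Fin m → Fin p) × (Fin m →₀ ℕ)) ≃ (Fin m →₀ ℕ) :=
    { toFun := fun x => p • x.2 + Finsupp.equivFunOnFinite.symm fun i => (x.1 i : ℕ)
      invFun := fun d => (fun i => ⟨d i % p, Nat.mod_lt _ hp⟩,
        Finsupp.equivFunOnFinite.symm fun i => d i / p)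
      left_inv := fun x => by
        refine Prod.ext (funext fun i => Fin.ext ?_) (Finsupp.ext fun i => ?_)
        · simp [Nat.mod_eq_of_lt (x.1 i).2]
        · simp [Nat.add_mul_div_left _ _ hp, Nat.mul_add_div hp, Nat.div_eq_of_lt (x.1 i).2]
      right_inv := fun d => Finsupp.ext fun i => by simp [Nat.div_add_mod] }
  let Ψ : ((Fin m → Fin p) → (MvPolynomial (Fin m) A)) →ₗ[(MvPolynomial (Fin m) A)] S := Fintype.linearCombination (MvPolynomial (Fin m) A) v
  let B₁ : Module.Basis (Σ _ : Fin m → Fin p, Fin m →₀ ℕ) A ((Fin m → Fin p) → (MvPolynomial (Fin m) A)) :=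
    Pi.basis fun _ => MvPolynomial.basisMonomials (Fin m) A
  let B₂ := (MvPolynomial.basisMonomials (Fin m) A).map u.toLinearEquiv
  let E := B₁.equiv B₂ ((Equiv.sigmaEquivProd _ _).trans σ)
  have hΨ : ∀ x, Ψ x = E x := by
    refine fun x => LinearMap.congr_fun (B₁.ext (f₁ := Ψ.restrictScalars A) (f₂ := E.toLinearMap) fun x => ?_) x
    obtain ⟨r, e⟩ := x
    change Ψ (B₁ ⟨r, e⟩) = E (B₁ ⟨r, e⟩)
    rw [Module.Basis.equiv_apply, Pi.basis_apply]
    refine (Fintype.linearCombination_apply_single (R := (MvPolynomial (Fin m) A)) (v := v) r _).trans ?_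
    rw [Algebra.smul_def, Module.Basis.map_apply]
    simp only [MvPolynomial.coe_basisMonomials]
    change φ (MvPolynomial.monomial e 1) * v r = _
    rw [hmon, ← map_mul, MvPolynomial.monomial_mul, one_mul]
    rfl
  let L : ((Fin m → Fin p) → (MvPolynomial (Fin m) A)) ≃ₗ[(MvPolynomial (Fin m) A)] S := LinearEquiv.ofBijective Ψ (by
    rw [show (Ψ : _ → S) = E from funext hΨ]; exact E.bijective)
  have : Nonempty (Fin m → Fin p) := ⟨fun _ => ⟨0, hp⟩⟩
  have : Module.Finite (MvPolynomial (Fin m) A) S := Module.Finite.equiv L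
  have : Module.FaithfullyFlat (MvPolynomial (Fin m) A) ((Fin m → Fin p) → (MvPolynomial (Fin m) A)) :=
    Module.FaithfullyFlat.of_linearEquiv (MvPolynomial (Fin m) A) ((Fin m → Fin p) →₀ (MvPolynomial (Fin m) A))
      (Finsupp.linearEquivFunOnFinite (MvPolynomial (Fin m) A) (MvPolynomial (Fin m) A) _).symm
  have hff : Module.FaithfullyFlat (MvPolynomial (Fin m) A) S := Module.FaithfullyFlat.of_linearEquiv (MvPolynomial (Fin m) A) _ L.symm
  refine ⟨⟨inferInstance, ?_, fun q => ?_⟩, hff⟩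
  · have : Algebra.FiniteType (MvPolynomial (Fin m) A) S := inferInstance
    exact Algebra.FinitePresentation.of_finiteType.mp this
  let κ := q.asIdeal.ResidueField
  let F := q.asIdeal.Fiber S
  let T : Fin m → κ := fun i => algebraMap (MvPolynomial (Fin m) A) κ (MvPolynomial.X i)
  let ψ : MvPolynomial (Fin m) κ →ₐ[κ] F :=
    MvPolynomial.aeval fun i => (1 : κ) ⊗ₜ[MvPolynomial (Fin m) A] u (MvPolynomial.X i)
  let r : Fin m → MvPolynomial (Fin m) κ := fun i =>
    MvPolynomial.X i ^ p - MvPolynomial.C (T i)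
  let Q := MvPolynomial (Fin m) κ ⧸ Ideal.span (Set.range r)
  have hφX : ∀ i, algebraMap (MvPolynomial (Fin m) A) S (MvPolynomial.X i) = u (MvPolynomial.X i) ^ p := hu
  have hT : ∀ i, algebraMap κ F (T i) = (1 : κ) ⊗ₜ[MvPolynomial (Fin m) A] (u (MvPolynomial.X i) ^ p) := fun i => by
    rw [Algebra.TensorProduct.algebraMap_apply, Algebra.algebraMap_self_apply, ← hφX]
    change algebraMap (MvPolynomial (Fin m) A) κ (MvPolynomial.X i) ⊗ₜ[MvPolynomial (Fin m) A] (1 : S) = _
    rw [Algebra.algebraMap_eq_smul_one, Algebra.algebraMap_eq_smul_one, TensorProduct.smul_tmul]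
  have hr : ∀ i, ψ (r i) = 0 := fun i => by
    simp only [r, ψ, map_sub, map_pow, MvPolynomial.aeval_X, MvPolynomial.aeval_C, hT]
    refine sub_eq_zero.mpr ((Algebra.TensorProduct.tmul_pow _ _ _).trans ?_)
    rw [one_pow]
  let Ψ' : Q →ₐ[κ] F := Ideal.Quotient.liftₐ _ ψ (fun x hx => by
    refine Submodule.span_induction (p := fun x _ => ψ x = 0) ?_ (map_zero _) ?_ ?_ hx
    · rintro _ ⟨i, rfl⟩; exact hr i
    · intro a b _ _ ha hb; rw [map_add, ha, hb, add_zero]
    · intro a b _ hb; rw [smul_eq_mul, map_mul, hb, mul_zero])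
  let : Algebra A Q := ((algebraMap κ Q).comp ((algebraMap (MvPolynomial (Fin m) A) κ).comp MvPolynomial.C)).toAlgebra
  let g₀ : S →ₐ[A] Q :=
    (MvPolynomial.aeval fun i => Ideal.Quotient.mk _ (MvPolynomial.X i)).comp u.symm.toAlgHom
  have hg₀ : g₀.toRingHom.comp (algebraMap (MvPolynomial (Fin m) A) S) = (algebraMap κ Q).comp (algebraMap (MvPolynomial (Fin m) A) κ) := by
    refine MvPolynomial.ringHom_ext (fun a => ?_) fun i => ?_
    · change g₀ (φ (MvPolynomial.C a)) = _
      rw [← MvPolynomial.algebraMap_eq, φ.commutes, g₀.commutes]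
      rfl
    · change g₀ (φ (MvPolynomial.X i)) = _
      rw [hφ, map_pow]
      change (MvPolynomial.aeval _ (u.symm (u (MvPolynomial.X i)))) ^ p = _
      rw [AlgEquiv.symm_apply_apply, MvPolynomial.aeval_X, ← map_pow]
      refine (Ideal.Quotient.eq (I := Ideal.span (Set.range r))).mpr ?_
      exact Ideal.subset_span ⟨i, rfl⟩
  let g₁ : S →ₐ[(MvPolynomial (Fin m) A)] Q :=
    { g₀.toRingHom with commutes' := fun x => RingHom.congr_fun hg₀ x }
  let G : F →ₐ[κ] Q := Algebra.TensorProduct.lift (Algebra.ofId κ Q) g₁ fun _ _ => .all _ _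
  have hGΨ : G.comp Ψ' = AlgHom.id κ Q := by
    refine Ideal.Quotient.algHom_ext κ (MvPolynomial.algHom_ext fun i => ?_)
    change G (ψ (MvPolynomial.X i)) = Ideal.Quotient.mk _ (MvPolynomial.X i)
    rw [MvPolynomial.aeval_X, Algebra.TensorProduct.lift_tmul, map_one, one_mul]
    change MvPolynomial.aeval _ (u.symm (u (MvPolynomial.X i))) = _
    rw [AlgEquiv.symm_apply_apply, MvPolynomial.aeval_X]
  have hsurjψ : Function.Surjective ψ := by
    intro z
    induction z using TensorProduct.induction_on with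
    | zero => exact ⟨0, map_zero _⟩
    | add x y hx hy =>
      obtain ⟨a, rfl⟩ := hx; obtain ⟨b, rfl⟩ := hy; exact ⟨a + b, map_add _ _ _⟩
    | tmul c y =>
      obtain ⟨x, rfl⟩ := u.surjective y
      induction x using MvPolynomial.induction_on generalizing c with
      | C a =>
        refine ⟨MvPolynomial.C (algebraMap (MvPolynomial (Fin m) A) κ (MvPolynomial.C a) * c), ?_⟩
        rw [MvPolynomial.aeval_C, Algebra.TensorProduct.algebraMap_apply, Algebra.algebraMap_self_apply,
          ← Algebra.smul_def, TensorProduct.smul_tmul, Algebra.smul_def, mul_one]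
        exact congrArg (c ⊗ₜ[MvPolynomial (Fin m) A] ·) ((φ.commutes a).trans (u.commutes a).symm)
      | add x y hx hy =>
        obtain ⟨a, ha⟩ := hx c; obtain ⟨b, hb⟩ := hy c
        exact ⟨a + b, by rw [map_add, map_add, ha, hb, TensorProduct.tmul_add]⟩
      | mul_X x i hx =>
        obtain ⟨a, ha⟩ := hx c
        exact ⟨a * MvPolynomial.X i, by
          rw [map_mul, map_mul, ha, MvPolynomial.aeval_X, Algebra.TensorProduct.tmul_mul_tmul, mul_one]⟩
  have hker : RingHom.ker ψ.toRingHom = Ideal.span (Set.range r) := by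
    refine le_antisymm (fun x hx => ?_) (Ideal.span_le.mpr (by rintro _ ⟨i, rfl⟩; exact hr i))
    have := AlgHom.congr_fun hGΨ (Ideal.Quotient.mk _ x)
    rw [AlgHom.comp_apply, AlgHom.id_apply] at this
    rw [← Ideal.Quotient.eq_zero_iff_mem, ← this]
    exact (congrArg G hx).trans (map_zero G)
  refine ⟨Algebra.FiniteType.of_surjective ψ hsurjψ, fun 𝔭 => ⟨1, by
    exact (Ideal.ne_top_iff_one _).mp 𝔭.2.ne_top, Or.inr ?_⟩⟩
  let e : F ≃ₐ[κ] Localization.Away (1 : F) :=
    (IsLocalization.atUnits F (Submonoid.powers (1 : F)) (S := Localization.Away (1 : F))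
      (by rintro _ ⟨k, rfl⟩; simp)).restrictScalars κ
  refine ⟨m, m, le_rfl, e.toAlgHom.comp ψ, r, e.surjective.comp hsurjψ, ?_, ?_⟩
  · rw [← hker]
    ext x
    exact map_eq_zero_iff e e.injective
  · rw [Nat.sub_self, ← ringKrullDim_eq_of_ringEquiv e.toRingEquiv]
    have : Nontrivial F := nontrivial_of_ne (0 : F) 1 fun h =>
      𝔭.2.ne_top ((Ideal.eq_top_iff_one _).mpr (h ▸ 𝔭.asIdeal.zero_mem))
    have : IsArtinianRing F := IsArtinianRing.of_finite κ F
    exact ringKrullDimZero_iff_ringKrullDim_eq_zero.mp inferInstance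

end Groth.Agent.SyntDim
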